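import Mathlib

set_option autoImplicit false

/-! Solvable groups with a fixed-point-free automorphism of order dividing four: faithful irreducible
case. -/

namespace Cfsg.Agent.Lib.FPFOrderFour

/-- A fixed-point-free involutory automorphism inverts. -/
theorem inv_of_involutive {H : Type*} [Group H] [Finite H] (ι : H ≃* H) (K : Subgroup H)
    (hK : ∀ x ∈ K, ι x ∈ K) (h2 : ∀ x ∈ K, ι (ι x) = x) (hfix : ∀ x ∈ K, ι x = x → x = 1) :
    ∀ x ∈ K, ι x = x⁻¹ := by
  intro x hx
  let f : K → K := fun g => ⟨(g : H)⁻¹ * ι g, K.mul_mem (K.inv_mem g.2) (hK g g.2)⟩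
  have hf : Function.Injective f := by
    intro a b hab
    have h : (a : H)⁻¹ * ι a = (b : H)⁻¹ * ι b := congrArg Subtype.val hab
    have h1 : ι ((b : H) * (a : H)⁻¹) = (b : H) * (a : H)⁻¹ := by
      rw [map_mul, map_inv, mul_inv_eq_iff_eq_mul]
      calc ι b = (b : H) * ((b : H)⁻¹ * ι b) := by group
        _ = (b : H) * ((a : H)⁻¹ * ι a) := by rw [h]
        _ = (b : H) * (a : H)⁻¹ * ι a := by group
    have := hfix _ (K.mul_mem b.2 (K.inv_mem a.2)) h1
    rw [mul_inv_eq_one] at this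
    exact Subtype.ext this.symm
  obtain ⟨g, hg⟩ := (Finite.injective_iff_surjective.mp hf) ⟨x, hx⟩
  have h : (g : H)⁻¹ * ι g = x := congrArg Subtype.val hg
  rw [← h, map_mul, map_inv, h2 _ g.2, mul_inv_rev, inv_inv]

theorem commute_of_inverted {H : Type*} [Group H] (ι : H ≃* H) (K : Subgroup H)
    (h : ∀ x ∈ K, ι x = x⁻¹) {x y : H} (hx : x ∈ K) (hy : y ∈ K) : x * y = y * x := by
  have h1 := h _ (K.mul_mem hx hy)
  rw [map_mul, h x hx, h y hy, mul_inv_rev] at h1
  have h2 := congrArg (fun z => x * (y * z * y) * x) h1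
  simpa [mul_assoc] using h2

theorem isPGroup_of_pow_eq_one {H : Type*} [Group H] {q : ℕ} (K : Subgroup H)
    (h : ∀ x ∈ K, x ^ q = 1) : IsPGroup q K :=
  fun x => ⟨1, by rw [pow_one]; exact Subtype.ext (h x x.2)⟩

theorem exists_sq_eq {H : Type*} [Group H] [Finite H] (hodd : Odd (Nat.card H)) (y : H) :
    ∃ k : ℕ, (y ^ k) * (y ^ k) = y := by
  obtain ⟨m, hm⟩ := hodd
  refine ⟨m + 1, ?_⟩
  rw [← pow_add, show m + 1 + (m + 1) = Nat.card H + 1 by omega, pow_succ, pow_card_eq_one', one_mul]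

theorem smul_eq_self_of_sq {H V : Type*} [Group H] [Finite H] [MulAction H V] (hodd : Odd (Nat.card H))
    {g : H} {v : V} (h : g • g • v = v) : g • v = v := by
  obtain ⟨k, hk⟩ := exists_sq_eq hodd g
  rw [smul_smul] at h
  have h1 : (g * g) ∈ MulAction.stabilizer H v := h
  have h2 := (MulAction.stabilizer H v).pow_mem h1 k
  rw [(Commute.refl g).mul_pow, hk] at h2
  exact h2

theorem eq_zero_of_coprime_nsmul {V : Type*} [AddCommGroup V] {r n : ℕ} (hcop : n.Coprime r)
    {v : V} (hr : r • v = 0) (hn : n • v = 0) : v = 0 := by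
  apply AddMonoid.addOrderOf_eq_one_iff.mp
  exact Nat.eq_one_of_dvd_coprimes hcop (addOrderOf_dvd_of_nsmul_eq_zero hn)
    (addOrderOf_dvd_of_nsmul_eq_zero hr)

theorem fix_of_fix_sub {H V : Type*} [Group H] [AddCommGroup V] [DistribMulAction H V] {r : ℕ}
    (hr : ∀ v : V, r • v = 0) {g : H} (hg : (orderOf g).Coprime r) {x : V}
    (h : g • (g • x - x) = g • x - x) : g • x = x := by
  set w := g • x - x with hw
  have hi : ∀ i : ℕ, g ^ i • x = x + i • w := by
    intro i
    induction i with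
    | zero => simp
    | succ i ih =>
      rw [pow_succ', mul_smul, ih, smul_add, smul_comm g i w, h, succ_nsmul]
      rw [show g • x = x + w by rw [hw]; abel]
      abel
  have := hi (orderOf g)
  rw [pow_orderOf_eq_one, one_smul, left_eq_add] at this
  have h0 := eq_zero_of_coprime_nsmul hg (hr w) this
  rw [hw, sub_eq_zero] at h0
  exact h0

/-- A minimal invariant normal abelian subgroup. -/
theorem exists_minimal {H : Type*} [Group H] [Finite H] [Group.IsSolvable H] [Nontrivial H] (σ : H ≃* H) :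
    ∃ (A : Subgroup H) (q : ℕ), q.Prime ∧ A.Normal ∧ A ≠ ⊥ ∧ (∀ a ∈ A, σ a ∈ A) ∧
      (∀ a ∈ A, ∀ b ∈ A, a * b = b * a) ∧ (∀ a ∈ A, a ^ q = 1) ∧
      ∀ B : Subgroup H, B ≤ A → B.Normal → (∀ b ∈ B, σ b ∈ B) → B = ⊥ ∨ B = A := by
  classical
  let S : Set (Subgroup H) :=
    {A | A.Normal ∧ A ≠ ⊥ ∧ (∀ a ∈ A, σ a ∈ A) ∧ ∀ a ∈ A, ∀ b ∈ A, a * b = b * a}
  have hne : S.Nonempty := by
    obtain ⟨n, hn⟩ := Group.IsSolvable.solvable (G := H)
    have hex : ∃ n, derivedSeries H n = ⊥ := ⟨n, hn⟩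
    obtain ⟨m, hm⟩ : ∃ m, Nat.find hex = m + 1 := by
      refine ⟨Nat.find hex - 1, (Nat.succ_pred_eq_of_pos (Nat.pos_of_ne_zero fun h => ?_)).symm⟩
      have h1 := Nat.find_spec hex
      rw [h, derivedSeries_zero] at h1
      exact top_ne_bot h1
    haveI := derivedSeries_characteristic H m
    refine ⟨derivedSeries H m, inferInstance, fun h => Nat.find_min hex (by omega) h, fun a ha => ?_,
      fun a ha b hb => ?_⟩
    · have := Subgroup.characteristic_iff_map_eq.mp (derivedSeries_characteristic H m) σ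
      exact this ▸ Subgroup.mem_map_of_mem σ.toMonoidHom ha
    · have h1 := Nat.find_spec hex
      rw [hm, derivedSeries_succ, Subgroup.commutator_eq_bot_iff_le_centralizer] at h1
      exact (Subgroup.mem_centralizer_iff.mp (h1 hb) a ha)
  obtain ⟨A, hAS, hmin⟩ := (Set.toFinite S).exists_minimal hne
  obtain ⟨hAn, hAne, hAσ, hAc⟩ := hAS
  have hmin' : ∀ B : Subgroup H, B ≤ A → B.Normal → (∀ b ∈ B, σ b ∈ B) → B = ⊥ ∨ B = A := by
    intro B hBA hBn hBσ
    by_cases hB : B = ⊥
    · exact Or.inl hB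
    · exact Or.inr (le_antisymm hBA (hmin
        ⟨hBn, hB, hBσ, fun a ha b hb => hAc a (hBA ha) b (hBA hb)⟩ hBA))
  obtain ⟨q, hq, hqd⟩ := Nat.exists_prime_and_dvd (n := Nat.card A) (by
    simpa [Subgroup.card_eq_one] using hAne)
  haveI := Fact.mk hq
  obtain ⟨a0, ha0⟩ := exists_prime_orderOf_dvd_card' q hqd
  let B : Subgroup H :=
    { carrier := {a | a ∈ A ∧ a ^ q = 1}
      one_mem' := ⟨A.one_mem, one_pow q⟩
      mul_mem' := fun {a b} ha hb => ⟨A.mul_mem ha.1 hb.1, by
        rw [Commute.mul_pow (hAc a ha.1 b hb.1), ha.2, hb.2, one_mul]⟩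
      inv_mem' := fun {a} ha => ⟨A.inv_mem ha.1, by rw [inv_pow, ha.2, inv_one]⟩ }
  have hBne : B ≠ ⊥ := by
    intro h
    have h1 : (a0 : H) ∈ B := ⟨a0.2, by rw [← SubgroupClass.coe_pow, ← ha0, pow_orderOf_eq_one]; rfl⟩
    rw [h, Subgroup.mem_bot, OneMemClass.coe_eq_one] at h1
    rw [h1, orderOf_one] at ha0
    exact hq.one_lt.ne ha0
  have hBA : B = A := (hmin' B (fun a ha => ha.1)
    ⟨fun b hb g => ⟨hAn.conj_mem b hb.1 g, by rw [conj_pow, hb.2, mul_one, mul_inv_cancel]⟩⟩
    (fun b hb => ⟨hAσ b hb.1, by rw [← map_pow, hb.2, map_one]⟩)).resolve_left hBne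
  exact ⟨A, q, hq, hAn, hAne, hAσ, hAc, fun a ha => (hBA.ge ha).2, hmin'⟩

section Module

variable {H V : Type*} [Group H] [AddCommGroup V] [DistribMulAction H V]

/-- The faithful irreducible case. -/
theorem abelian_of_irreducible [Finite H] [Finite V] [FaithfulSMul H V] [Group.IsSolvable H]
    (hodd : Odd (Nat.card H)) {r : ℕ} [hr : Fact r.Prime] (hr2 : r ≠ 2) (hV : ∀ v : V, r • v = 0)
    (σ : H ≃* H) (s : V ≃+ V) (hcomp : ∀ (h : H) (v : V), s (h • v) = σ h • s v)
    (hσ4 : ∀ h, σ (σ (σ (σ h))) = h) (hs4 : ∀ v, s (s (s (s v))) = v)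
    (hσf : ∀ h, σ h = h → h = 1) (hsf : ∀ v, s v = v → v = 0)
    (hirr : ∀ W : AddSubgroup V, (∀ h : H, ∀ w ∈ W, h • w ∈ W) → (∀ w ∈ W, s w ∈ W) → W = ⊥ ∨ W = ⊤) :
    ∀ g h : H, g * h = h * g := by
  classical
  rcases subsingleton_or_nontrivial H with hH | hH
  · exact fun g h => Subsingleton.elim _ _
  -- the square of `σ`
  let T : H ≃* H := σ.trans σ
  let t : V ≃+ V := s.trans s
  have hT2 : ∀ h, T (T h) = h := hσ4
  have ht2 : ∀ v, t (t v) = v := hs4
  have htc : ∀ (h : H) (v : V), t (h • v) = T h • t v := fun h v => by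
    show s (s (h • v)) = σ (σ h) • s (s v)
    rw [hcomp, hcomp]
  let C : Subgroup H := T.toMonoidHom.eqLocus (MonoidHom.id H)
  have hC : ∀ c, c ∈ C ↔ T c = c := fun c => Iff.rfl
  have hCinv : ∀ c ∈ C, σ c = c⁻¹ := by
    refine inv_of_involutive σ C (fun c hc => ?_) (fun c hc => hc) (fun c _ h => hσf c h)
    rw [hC] at hc ⊢
    exact congrArg σ hc
  have hnot2 : ∀ v : V, v + v = 0 → v = 0 := fun v hv =>
    eq_zero_of_coprime_nsmul ((Nat.coprime_primes Nat.prime_two hr.out).mpr (Ne.symm hr2)) (hV v)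
      (by rw [two_nsmul]; exact hv)
  have hplus : ∀ v, t v = v → s v = -v := fun v hv => by
    have h1 : v + s v = 0 := hsf _ (by
      rw [map_add, show s (s v) = v from hv, add_comm])
    exact eq_neg_of_add_eq_zero_right h1
  -- `C` fixes the fixed points of `t`
  have hCplus : ∀ c ∈ C, ∀ v, t v = v → c • v = v := by
    intro c hc v hv
    have h1 : t (c • v) = c • v := by rw [htc, (hC c).mp hc, hv]
    have h2 := hcomp c v
    rw [hplus _ h1, hplus _ hv, hCinv c hc, smul_neg, neg_inj] at h2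
    refine smul_eq_self_of_sq hodd ?_
    rw [h2, smul_inv_smul]
  -- a minimal invariant abelian normal subgroup
  obtain ⟨A, q, hq, hAn, hAne, hAσ, hAc, hAq, -⟩ := exists_minimal σ
  haveI := Fact.mk hq
  have hAT : ∀ a ∈ A, T a ∈ A := fun a ha => hAσ _ (hAσ a ha)
  have hfixA : ∀ v : V, (∀ a ∈ A, a • v = v) → v = 0 := by
    let W : AddSubgroup V :=
      { carrier := {v | ∀ a ∈ A, a • v = v}
        zero_mem' := fun a _ => smul_zero a
        add_mem' := fun {v w} hv hw a ha => by rw [smul_add, hv a ha, hw a ha]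
        neg_mem' := fun {v} hv a ha => by rw [smul_neg, hv a ha] }
    have hWh : ∀ h : H, ∀ w ∈ W, h • w ∈ W := fun h w hw a ha => by
      have := hw _ (hAn.conj_mem a ha h⁻¹)
      rw [inv_inv, mul_smul, mul_smul] at this
      rw [show a • h • w = h • (h⁻¹ • a • h • w) by rw [smul_inv_smul], this]
    have hWs : ∀ w ∈ W, s w ∈ W := fun w hw a ha => by
      have h1 : σ (σ (σ a)) ∈ A := hAσ _ (hAσ _ (hAσ a ha))
      have := congrArg s (hw _ h1)
      rwa [hcomp, hσ4] at this
    rcases hirr W hWh hWs with h | h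
    · intro v hv
      have : v ∈ W := hv
      rw [h, AddSubgroup.mem_bot] at this
      exact this
    · exfalso
      obtain ⟨a, ha, ha1⟩ := (Subgroup.bot_or_exists_ne_one A).resolve_left hAne
      apply ha1
      apply FaithfulSMul.eq_of_smul_eq_smul (α := V)
      intro v
      rw [one_smul]
      have : v ∈ W := h ▸ AddSubgroup.mem_top v
      exact this a ha
  have hqr : q.Coprime r := by
    rw [Nat.coprime_primes hq hr.out]
    rintro rfl
    have hP : IsPGroup q A := isPGroup_of_pow_eq_one A hAq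
    obtain ⟨v, hv0⟩ : ∃ v : V, v ≠ 0 := by
      by_contra hall
      push_neg at hall
      obtain ⟨a, ha, ha1⟩ := (Subgroup.bot_or_exists_ne_one A).resolve_left hAne
      exact ha1 (FaithfulSMul.eq_of_smul_eq_smul (α := V) fun v => by rw [hall (a • v), hall ((1 : H) • v)])
    have hdvd : q ∣ Nat.card V := by
      rw [← addOrderOf_eq_prime (hV v) hv0]
      exact addOrderOf_dvd_natCard v
    obtain ⟨b, hb, hb0⟩ := hP.exists_fixed_point_of_prime_dvd_card_of_fixed_point V hdvd (a := (0 : V))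
      (fun a => smul_zero (a : H))
    exact hb0 (hfixA b fun a ha => hb ⟨a, ha⟩).symm
  have hord : ∀ a ∈ A, (orderOf a).Coprime r := fun a ha =>
    hqr.coprime_dvd_left (orderOf_dvd_of_pow_eq_one (hAq a ha))
  -- key computation
  have key : ∀ c ∈ C, ∀ a ∈ A, T a = a⁻¹ → ∀ v, t v = v → c • a • v = a • v := by
    intro c hc a ha haT v hv
    have hcT := (hC c).mp hc
    set b := c * a * c⁻¹ with hb
    have hbA : b ∈ A := hAn.conj_mem a ha c
    have hbT : T b = b⁻¹ := by
      rw [hb, map_mul, map_mul, map_inv, hcT, haT]; group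
    have hcb : ∀ x : V, c • a • x = b • c • x := fun x => by rw [smul_smul, smul_smul, hb]; congr 1; group
    have hcv := hCplus c hc v hv
    rw [hcb, hcv]
    have hcb' : ∀ x : V, c • a⁻¹ • x = b⁻¹ • c • x := fun x => by rw [smul_smul, smul_smul, hb]; congr 1; group
    clear_value b
    have hrel : b • v + b⁻¹ • v = a • v + a⁻¹ • v := by
      have h1 := hCplus c hc (a • v + a⁻¹ • v) (by
        rw [map_add, htc, htc, haT, map_inv, haT, inv_inv, hv, add_comm])
      rwa [smul_add, hcb, hcb', hcv] at h1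
    set g := b * a⁻¹ with hg
    have hgA : g ∈ A := A.mul_mem hbA (A.inv_mem ha)
    have hab : a * b = b * a := hAc a ha b hbA
    have hgT : T g = g⁻¹ := by
      rw [hg, map_mul, map_inv, haT, hbT, inv_inv, mul_inv_rev b a⁻¹, inv_inv]
      exact (Commute.inv_left (Eq.symm hab : Commute b a)).eq
    set w := g • v - v with hw
    have hw1 : (a * b) • w = w := by
      have h1 := congrArg (b • ·) hrel
      simp only [smul_add, smul_smul, mul_inv_cancel, one_smul] at h1
      have e1 : a * b * g = b * b := by rw [hg, hab]; simp only [mul_assoc]; rw [← mul_assoc a b, hab]; group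
      rw [hw, smul_sub, smul_smul, e1, hg, sub_eq_sub_iff_add_eq_add, h1, hab, add_comm]
    set u := w + t w with hu
    have hu1 : t u = u := by rw [hu, map_add, ht2, add_comm]
    have hu2 : (a * b) • u = u := by
      rw [hu, smul_add, hw1]
      congr 1
      have h1 := congrArg t hw1
      rw [htc, map_mul, haT, hbT, ← mul_inv_rev, ← hab] at h1
      exact inv_smul_eq_iff.mp h1 |>.symm
    have hcu := hCplus c hc u hu1
    have hbu : b • u = a⁻¹ • u := by
      rw [eq_inv_smul_iff, smul_smul]; exact hu2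
    have hcau : c • a • u = a⁻¹ • u := by rw [hcb, hcu, hbu]
    have hau : c • a • u = a • u := by
      refine smul_eq_self_of_sq hodd ?_
      rw [hcau, hcb', hcu, inv_smul_eq_iff, smul_smul, ← hab, hu2]
    have ha2 : a • u = u := by
      refine smul_eq_self_of_sq hodd ?_
      rw [show a • u = a⁻¹ • u from hau ▸ hcau, smul_inv_smul]
    have hgu : g • u = u := by
      rw [hg, mul_smul, inv_smul_eq_iff.mpr ha2.symm, hbu, inv_smul_eq_iff.mpr ha2.symm]
    -- three steps down
    have htw : t w = g⁻¹ • v - v := by rw [hw, map_sub, htc, hgT, hv]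
    have h3 : g • (g • w - w) = g • w - w := by
      have e2 : g • w - w = g • u := by
        rw [hu, smul_add, htw, hw]; simp only [smul_sub, smul_inv_smul]; abel
      rw [e2, hgu, hgu]
    have h4 : g • w = w := fix_of_fix_sub hV (hord g hgA) h3
    have h5 : g • v = v := fix_of_fix_sub hV (hord g hgA) h4
    rw [hg, mul_smul] at h5
    rw [smul_smul, ← (Commute.inv_left (hab : Commute a b)).eq, mul_smul, inv_smul_eq_iff] at h5
    exact h5
  -- `C` fixes `[V, A₋]`
  have hcomm : ∀ c ∈ C, ∀ a ∈ A, T a = a⁻¹ → ∀ v : V, c • (v - a • v) = v - a • v := by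
    intro c hc a ha haT v
    have main : ∀ z ∈ A, T z = z⁻¹ → ∀ w : V, c • (z • w - z⁻¹ • w) = z • w - z⁻¹ • w := by
      intro z hz hzT w
      have hzT' : T z⁻¹ = (z⁻¹)⁻¹ := by rw [map_inv, hzT]
      set v1 := w + t w with hv1
      set v2 := w - t w with hv2
      have h1 : t v1 = v1 := by rw [hv1, map_add, ht2, add_comm]
      have h2 : c • (z • v1 - z⁻¹ • v1) = z • v1 - z⁻¹ • v1 := by
        rw [smul_sub, key c hc z hz hzT v1 h1, key c hc z⁻¹ (A.inv_mem hz) hzT' v1 h1]
      have h3 : c • (z • v2 - z⁻¹ • v2) = z • v2 - z⁻¹ • v2 := hCplus c hc _ (by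
        rw [map_sub, htc, htc, hzT, hzT', inv_inv, hv2, map_sub, ht2]
        simp only [smul_sub]; abel)
      set y := c • (z • w - z⁻¹ • w) - (z • w - z⁻¹ • w) with hy
      have : y + y = 0 := by
        have h4 := congrArg₂ (· + ·) h2 h3
        simp only [hv1, hv2, smul_add, smul_sub] at h4
        rw [hy, ← sub_eq_zero.mpr h4]
        simp only [smul_sub]
        abel
      exact sub_eq_zero.mp (hnot2 y this)
    obtain ⟨k, hk⟩ := exists_sq_eq hodd a
    have hz := main (a ^ k) (A.pow_mem ha k) (by rw [map_pow, haT, inv_pow]) (a ^ k • v)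
    rw [smul_smul, smul_smul, hk, inv_mul_cancel, one_smul] at hz
    rw [← neg_sub, smul_neg, hz]
  by_cases hC1 : C = ⊥
  · have hinv := inv_of_involutive T ⊤ (fun _ _ => Subgroup.mem_top _) (fun x _ => hT2 x) (fun x _ hx => by
      have : x ∈ C := hx
      rwa [hC1, Subgroup.mem_bot] at this)
    exact fun g h => commute_of_inverted T ⊤ hinv (Subgroup.mem_top g) (Subgroup.mem_top h)
  by_cases htneg : ∀ v, t v = -v
  · intro g h
    have hall : ∀ x : H, x ∈ C := fun x => by
      rw [hC]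
      apply FaithfulSMul.eq_of_smul_eq_smul (α := V)
      intro v
      have h1 := htc x v
      rw [htneg, htneg, smul_neg, neg_inj] at h1
      exact h1.symm
    exact commute_of_inverted σ C hCinv (hall g) (hall h)
  exfalso
  -- the subgroups of `A`
  let Am : Subgroup H :=
    { carrier := {a | a ∈ A ∧ T a = a⁻¹}
      one_mem' := ⟨A.one_mem, by rw [map_one, inv_one]⟩
      mul_mem' := fun {a b} ha hb => ⟨A.mul_mem ha.1 hb.1, by
        rw [map_mul, ha.2, hb.2, mul_inv_rev]
        exact hAc _ (A.inv_mem ha.1) _ (A.inv_mem hb.1)⟩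
      inv_mem' := fun {a} ha => ⟨A.inv_mem ha.1, by rw [map_inv, ha.2]⟩ }
  have hsplit : ∀ a ∈ A, ∃ p ∈ A, T p = p ∧ ∃ m ∈ Am, p * m = a := by
    intro a ha
    have hyA : a⁻¹ * T a ∈ A := A.mul_mem (A.inv_mem ha) (hAT a ha)
    obtain ⟨k, hk⟩ := exists_sq_eq hodd (a⁻¹ * T a)
    have hzA := A.pow_mem hyA k
    set z := (a⁻¹ * T a) ^ k with hz
    have hzT : T z = z⁻¹ := by
      rw [hz, map_pow, ← inv_pow]
      congr 1
      rw [map_mul, map_inv, hT2, mul_inv_rev, inv_inv]
    refine ⟨a * z, A.mul_mem ha hzA, ?_, z⁻¹, ⟨A.inv_mem hzA, by rw [map_inv, hzT]⟩, by group⟩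
    rw [map_mul, hzT, show T a = a * (z * z) by rw [hk]; group]
    group
  let Wp : AddSubgroup V :=
    { carrier := {v | ∀ a ∈ A, T a = a⁻¹ → a • v = v}
      zero_mem' := fun a _ _ => smul_zero a
      add_mem' := fun {v w} hv hw a ha haT => by rw [smul_add, hv a ha haT, hw a ha haT]
      neg_mem' := fun {v} hv a ha haT => by rw [smul_neg, hv a ha haT] }
  have hApC : ∀ a ∈ A, T a = a → a ∈ C := fun a _ h => h
  have hplus0 : ∀ w ∈ Wp, t w = -w := by
    intro w hw
    have hwt : t w ∈ Wp := fun a ha haT => by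
      have := congrArg t (hw (T a) (hAT a ha) (by rw [hT2, haT, inv_inv]))
      rwa [htc, hT2] at this
    have h0 : w + t w = 0 := hfixA _ fun a ha => by
      obtain ⟨p, hp, hpT, m, hm, rfl⟩ := hsplit a ha
      rw [mul_smul, (Wp.add_mem hw hwt) m hm.1 hm.2]
      exact hCplus p hpT _ (by rw [map_add, ht2, add_comm])
    exact eq_neg_of_add_eq_zero_right h0
  -- invariance under the inverted elements
  have hWx : ∀ x : H, T x = x⁻¹ → ∀ w ∈ Wp, x • w ∈ Wp := by
    intro x hx
    have hzero : ∀ w ∈ Wp, (∀ p ∈ A, T p = p → p • x • w = x • w) → w = 0 := by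
      intro w hw hxw
      have htw := hplus0 w hw
      have hxw' : ∀ p ∈ A, T p = p → p • x⁻¹ • w = x⁻¹ • w := by
        intro p hp hpT
        have := congrArg t (hxw p hp hpT)
        rw [htc, htc, hx, hpT, htw, smul_neg, smul_neg, neg_inj] at this
        exact this
      let D := MulAction.stabilizer H w
      have hD : ∀ a ∈ A, (x * a * x⁻¹) * (x⁻¹ * a * x) ∈ D := by
        intro a ha
        obtain ⟨p, hp, hpT, m, hm, rfl⟩ := hsplit a ha
        have h1 : x * p * x⁻¹ ∈ D := by
          rw [MulAction.mem_stabilizer_iff, mul_smul, mul_smul, hxw' p hp hpT, smul_inv_smul]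
        have h2 : x⁻¹ * p * x ∈ D := by
          rw [MulAction.mem_stabilizer_iff, mul_smul, mul_smul, hxw p hp hpT, inv_smul_smul]
        have hy : x * m * x⁻¹ ∈ A := hAn.conj_mem m hm.1 x
        have hy' : x⁻¹ * m * x ∈ A := by simpa using hAn.conj_mem m hm.1 x⁻¹
        have hp1 : x * p * x⁻¹ ∈ A := hAn.conj_mem p hp x
        have hp2 : x⁻¹ * p * x ∈ A := by simpa using hAn.conj_mem p hp x⁻¹
        have hTy : T (x * m * x⁻¹) = (x⁻¹ * m * x)⁻¹ := by
          rw [map_mul, map_mul, map_inv, hx, hm.2]; group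
        have h3 : (x * m * x⁻¹) * (x⁻¹ * m * x) ∈ D := by
          refine hw _ (A.mul_mem hy hy') ?_
          have hTy' : T (x⁻¹ * m * x) = (x * m * x⁻¹)⁻¹ := by
            rw [map_mul, map_mul, map_inv, hx, hm.2]; group
          rw [map_mul, hTy, hTy', mul_inv_rev (x * m * x⁻¹) (x⁻¹ * m * x)]
        have e : x * (p * m) * x⁻¹ * (x⁻¹ * (p * m) * x)
            = (x * p * x⁻¹) * (x⁻¹ * p * x) * ((x * m * x⁻¹) * (x⁻¹ * m * x)) := by
          calc x * (p * m) * x⁻¹ * (x⁻¹ * (p * m) * x)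
              = x * p * x⁻¹ * ((x * m * x⁻¹) * (x⁻¹ * p * x)) * (x⁻¹ * m * x) := by group
            _ = x * p * x⁻¹ * ((x⁻¹ * p * x) * (x * m * x⁻¹)) * (x⁻¹ * m * x) := by rw [hAc _ hy _ hp2]
            _ = _ := by group
        rw [e]
        exact D.mul_mem (D.mul_mem h1 h2) h3
      refine hfixA w fun b hb => ?_
      let f : ℕ → H := fun i => x ^ (2 * i) * b * (x ^ (2 * i))⁻¹
      have hfA : ∀ i, f i ∈ A := fun i => hAn.conj_mem b hb _
      have hstep : ∀ i, f (i + 1) * f i ∈ D := by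
        intro i
        have := hD _ (hAn.conj_mem _ (hfA i) x)
        convert this using 2
        · simp only [f, show 2 * (i + 1) = 2 * i + 2 by ring, pow_add]
          rw [pow_mul_comm x (2 * i) 2]; group
        · simp only [f]; group
      have hev : ∀ j, f (2 * j) * b⁻¹ ∈ D := by
        intro j
        induction j with
        | zero => simp [f]
        | succ j ih =>
          have h1 := hstep (2 * j + 1)
          have h2 := hstep (2 * j)
          rw [hAc _ (hfA (2 * j + 1)) _ (hfA (2 * j))] at h2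
          have h3 := D.mul_mem (D.mul_mem h1 (D.inv_mem h2)) ih
          convert h3 using 1
          rw [show 2 * (j + 1) = 2 * j + 1 + 1 by ring]
          group
      obtain ⟨m, hm⟩ := hodd
      have hlast : f (2 * m + 1) = b := by
        simp only [f]
        rw [← hm, mul_comm, pow_mul, pow_card_eq_one', one_pow]
        simp
      have h1 := hstep (2 * m)
      rw [hlast] at h1
      have h2 := D.mul_mem h1 (D.inv_mem (hev m))
      rw [show b * f (2 * m) * (f (2 * m) * b⁻¹)⁻¹ = b * (f (2 * m) * b * (f (2 * m))⁻¹) by group,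
        hAc _ (hfA _) b hb, mul_inv_cancel_right] at h2
      exact smul_eq_self_of_sq ⟨m, hm⟩ (by rw [smul_smul]; exact h2)
    intro w hw a ha haT
    have hd : x⁻¹ * a * x ∈ A := by simpa using hAn.conj_mem a ha x⁻¹
    set d := x⁻¹ * a * x with hdd
    have hwd : w - d • w ∈ Wp := Wp.sub_mem hw fun e he heT => by
      rw [smul_smul, hAc e he d hd, mul_smul, hw e he heT]
    have h0 := hzero _ hwd fun p hp hpT => by
      rw [smul_sub x, smul_smul x d w, show x * d = a * x by rw [hdd]; group, mul_smul]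
      exact hcomm p hpT a ha haT (x • w)
    rw [sub_eq_zero] at h0
    rw [show a • x • w = x • d • w by rw [smul_smul, smul_smul, hdd]; congr 1; group, ← h0]
  -- `Wp` is invariant, hence trivial
  have hWh : ∀ h : H, ∀ w ∈ Wp, h • w ∈ Wp := by
    intro h w hw
    obtain ⟨k, hk⟩ := exists_sq_eq hodd (h⁻¹ * T h)
    set z := (h⁻¹ * T h) ^ k with hz
    have hzT : T z = z⁻¹ := by
      rw [hz, map_pow, ← inv_pow]
      congr 1
      rw [map_mul, map_inv, hT2, mul_inv_rev, inv_inv]
    have hcC : T (h * z) = h * z := by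
      rw [map_mul, hzT, show T h = h * (z * z) by rw [hk]; group]
      group
    rw [show h = h * z * z⁻¹ by group, mul_smul]
    have h1 := hWx z⁻¹ (by rw [map_inv, hzT]) w hw
    intro a ha haT
    have h2 := h1 ((h * z)⁻¹ * a * (h * z)) (by simpa using hAn.conj_mem a ha (h * z)⁻¹)
      (by rw [map_mul, map_mul, map_inv, hcC, haT]; group)
    rw [mul_smul, mul_smul] at h2
    rw [← inv_smul_eq_iff.mp h2 |>.symm]
  have hWs : ∀ w ∈ Wp, s w ∈ Wp := by
    intro w hw a ha haT
    have h1 : T (σ (σ (σ a))) = (σ (σ (σ a)))⁻¹ := by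
      have := congrArg (fun y => σ (σ (σ y))) haT
      simp only [map_inv] at this
      exact this
    have := congrArg s (hw _ (hAσ _ (hAσ _ (hAσ a ha))) h1)
    rwa [hcomp, hσ4] at this
  rcases hirr Wp hWh hWs with h | h
  · -- `A₋` has no fixed points, so `C` acts trivially
    apply hC1
    rw [eq_bot_iff]
    intro c hc
    rw [Subgroup.mem_bot]
    apply FaithfulSMul.eq_of_smul_eq_smul (α := V)
    intro v
    rw [one_smul]
    haveI : Fintype Am := Fintype.ofFinite _
    have hsum : ∑ m : Am, (m : H) • v = 0 := by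
      have hmem : ∑ m : Am, (m : H) • v ∈ Wp := by
        intro a ha haT
        rw [Finset.smul_sum]
        exact Fintype.sum_equiv (Equiv.mulLeft (⟨a, ha, haT⟩ : Am)) _ _ (fun m => by
          rw [smul_smul]; rfl)
      rw [h, AddSubgroup.mem_bot] at hmem
      exact hmem
    set y := c • v - v with hy
    have hy' : (Fintype.card Am) • y = 0 := by
      have e : (Fintype.card Am) • v = ∑ m : Am, (v - (m : H) • v) := by
        rw [Finset.sum_sub_distrib, hsum, sub_zero, Finset.sum_const, Finset.card_univ]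
      rw [hy, smul_sub, ← smul_comm c, e, Finset.smul_sum, ← Finset.sum_sub_distrib]
      exact Finset.sum_eq_zero fun m _ => by rw [hcomm c hc m m.2.1 m.2.2 v, sub_self]
    have hcop : (Fintype.card Am).Coprime r := by
      obtain ⟨j, hj⟩ := IsPGroup.iff_card.mp (isPGroup_of_pow_eq_one (q := q) Am fun a ha => hAq a ha.1)
      rw [← Nat.card_eq_fintype_card, hj]
      exact hqr.pow_left j
    exact sub_eq_zero.mp (eq_zero_of_coprime_nsmul hcop (hV y) hy')
  · apply htneg
    exact fun v => hplus0 v (h ▸ AddSubgroup.mem_top v)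

end Module

end Cfsg.Agent.Lib.FPFOrderFour
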